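import Groth.Prelude.Def_Curve
import Groth.Prelude.Def_ModelsG
import Groth.Agent.CurvesB.VABaseChange
import Groth.Agent.Dix.GenGeomIrr
import Groth.Agent.Picfga.H0
import Groth.Agent.Picfga.CurvePts
import Groth.Agent.Flat2B.SmoothGeom
import Groth.Agent.S1540
import Mathlib.Algebra.GCDMonoid.IntegrallyClosed
import Mathlib.RingTheory.Valuation.ValuationRing

/-!
# Base change of a smooth proper curve to a field extension

For `f : C ⟶ Spec K` a smooth proper curve with `H⁰(C, O_C) = K` (`IsIso f.appTop`):
* `geometricallyIrreducible`, `geometricallyIntegral`: `f` is geometrically integral;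
* `isSmoothProperCurve_bc`: `C_L` is a smooth proper curve for `L/K` algebraic;
* `isIso_appTop_bc`: `H⁰(C_L, O) = L`;
* `curveGenus_bc`: the genus does not change.
-/

set_option autoImplicit false
universe u
open CategoryTheory CategoryTheory.Limits AlgebraicGeometry

namespace Groth.Agent.Models.H74.CurveBC

/-- The structure map `K → Γ(C, ⊤)` is bijective when `f.appTop` is an isomorphism. -/
theorem bijective_toGlobal {A : Type u} [CommRing A] {C : Scheme.{u}} (f : C ⟶ Spec (CommRingCat.of A))
    [IsIso f.appTop] : Function.Bijective (Coh.toGlobal f) := by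
  have h1 : Function.Bijective f.appTop.hom := (ConcreteCategory.isIso_iff_bijective f.appTop).mp
    inferInstance
  have h2 : Function.Bijective (Scheme.ΓSpecIso (CommRingCat.of A)).inv.hom :=
    (ConcreteCategory.isIso_iff_bijective (Scheme.ΓSpecIso (CommRingCat.of A)).inv).mp inferInstance
  exact h1.comp h2

variable {K : Type u} [Field K] {C : Scheme.{u}} (f : C ⟶ Spec (CommRingCat.of K))

attribute [local instance] Curv2.resAlgebra Curv2.stalkAlgebra in
/-- An integral normal scheme over `K` with `H⁰ = K` is geometrically irreducible. -/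
theorem geometricallyIrreducible_of_normal [IsIntegral C] [IsIso f.appTop]
    (hn : ∀ z : C, IsIntegrallyClosed (C.presheaf.stalk z)) : GeometricallyIrreducible f := by
  let _ : C.Over (Spec (CommRingCat.of K)) := ⟨f⟩
  have key := (Groth.Agent.S1540.result K C).mpr
  refine key fun a ha => ?_
  have hx : ∀ z, genericPoint C ⤳ z := fun z => (genericPoint_spec C).specializes trivial
  have hbij := bijective_toGlobal f
  let _ : Algebra Γ(C, ⊤) (C.residueField (genericPoint C)) :=
    (Dix.GenGeomIrr.ev C (genericPoint C)).toAlgebra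
  let _ : Algebra K Γ(C, ⊤) := (Coh.toGlobal f).toAlgebra
  have tw : IsScalarTower K Γ(C, ⊤) (C.residueField (genericPoint C)) :=
    IsScalarTower.of_algebraMap_eq fun _ => rfl
  have h1 : IsAlgebraic K a := ha.isIntegral.isAlgebraic
  have h2 : IsAlgebraic Γ(C, ⊤) a := h1.extendScalars hbij.1
  obtain ⟨b, d, hd, had⟩ := Dix.GenGeomIrr.exists_fraction_of_isAlgebraic C (genericPoint C) hx hn a h2
  obtain ⟨b', rfl⟩ := hbij.2 b
  obtain ⟨d', rfl⟩ := hbij.2 d
  refine ⟨b' / d', ?_⟩
  rw [map_div₀]
  change Dix.GenGeomIrr.ev C (genericPoint C) (Coh.toGlobal f b') /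
    Dix.GenGeomIrr.ev C (genericPoint C) (Coh.toGlobal f d') = a
  rw [← had, mul_div_cancel_right₀ _ hd]

/-- A smooth proper curve with `H⁰ = K` is geometrically irreducible. -/
theorem geometricallyIrreducible (hC : Curve.IsSmoothProperCurve K C f) [IsIso f.appTop] :
    GeometricallyIrreducible f := by
  obtain ⟨h1, h2, h3, h4⟩ := hC
  exact geometricallyIrreducible_of_normal f fun z => by
    have h5 := Groth.Agent.Picfga.CurvePts.valuationRing_stalk f h4.le z
    have hd : IsDomain (C.presheaf.stalk z) := inferInstance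
    exact inferInstance

/-- A smooth proper curve with `H⁰ = K` is geometrically integral. -/
theorem geometricallyIntegral (hC : Curve.IsSmoothProperCurve K C f) [IsIso f.appTop] :
    GeometricallyIntegral f := by
  have := geometricallyIrreducible f hC
  obtain ⟨h1, h2, h3, h4⟩ := hC
  exact Flat2B.SmoothGeom.geometricallyIntegral_of_smooth f

section BC

variable {L : Type u} [Field L] [Algebra K L] {C' : Scheme.{u}} {g : C' ⟶ C}
  {f' : C' ⟶ Spec (CommRingCat.of L)}
  (hpb : IsPullback g f' f (Spec.map (CommRingCat.ofHom (algebraMap K L))))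

include hpb

theorem isSmoothProperCurve [Algebra.IsAlgebraic K L] (hC : Curve.IsSmoothProperCurve K C f)
    [IsIso f.appTop] : Curve.IsSmoothProperCurve L C' f' := by
  have hgi := geometricallyIntegral f hC
  obtain ⟨h1, h2, h3, h4⟩ := hC
  let _ : C.Over (Spec (CommRingCat.of K)) := ⟨f⟩
  let _ : C'.Over (Spec (CommRingCat.of L)) := ⟨f'⟩
  refine ⟨MorphismProperty.of_isPullback hpb h1, MorphismProperty.of_isPullback hpb h2,
    GeometricallyIntegral.geometrically_isIntegral (f := f) _ _ _ hpb, ?_⟩
  rw [← h4]
  exact CurvesB.VABaseChange.topologicalKrullDim_eq (X := C) (X' := C') (k := K) (K := L) hpb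

theorem isIso_appTop [QuasiCompact f] [QuasiSeparated f] [IsIso f.appTop] : IsIso f'.appTop := by
  have : CompactSpace C := (quasiCompact_iff_compactSpace f).mp inferInstance
  have : QuasiSeparatedSpace C := (quasiSeparated_iff_quasiSeparatedSpace f).mp inferInstance
  have h := Picfga.H0.isIso_app f ‹_›
    (Over.mk (Spec.map (CommRingCat.ofHom (algebraMap K L)))) ⊤
  have he : hpb.isoPullback.hom ≫ pullback.snd f (Spec.map (CommRingCat.ofHom (algebraMap K L))) = f' :=
    hpb.isoPullback_hom_snd
  have h' : IsIso (pullback.snd f (Spec.map (CommRingCat.ofHom (algebraMap K L)))).appTop := h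
  have h'' : IsIso hpb.isoPullback.hom.appTop := inferInstanceAs (IsIso (hpb.isoPullback.hom.app ⊤))
  rw [← he, Scheme.Hom.comp_appTop]
  exact @IsIso.comp_isIso _ _ _ _ _ _ _ h' h''

theorem curveGenus_eq [IsProper f] : Models.curveGenus L C' f' = Models.curveGenus K C f := by
  let _ : C.Over (Spec (CommRingCat.of K)) := ⟨f⟩
  let _ : C'.Over (Spec (CommRingCat.of L)) := ⟨f'⟩
  have : IsProper (C ↘ Spec (CommRingCat.of K)) := ‹IsProper f›
  exact CurvesB.VABaseChange.genus_eq (X := C) (X' := C') (k := K) (K := L) hpb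

end BC

end Groth.Agent.Models.H74.CurveBC
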